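import Groth.Agent.Lib.FEt21.Clopen
import Groth.Agent.Lib.FEt21.Henselian
import Mathlib.RingTheory.Etale.Field
import Mathlib.RingTheory.TensorProduct.Pi
import Mathlib.LinearAlgebra.TensorProduct.RightExactness

/-!
# Finite étale covers along a field extension which preserves finite separable extensions
-/

set_option autoImplicit false
set_option backward.isDefEq.respectTransparency false

universe u

open CategoryTheory CategoryTheory.Limits AlgebraicGeometry TensorProduct

namespace GrothLib.DvrComplFEtlead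

variable (K K' : Type u) [Field K] [Field K'] [Algebra K K']

local notation "fK" => Spec.map (CommRingCat.ofHom (algebraMap K K'))

theorem injective_fst_spec
    (hK : ∀ (L : Type u) [Field L] [Algebra K L] [FiniteDimensional K L] [Algebra.IsSeparable K L],
      IsField (K' ⊗[K] L))
    (B : Type u) [CommRing B] [Algebra K B] [Module.Finite K B] [Algebra.Etale K B] :
    Function.Injective (pullback.fst (Spec.map (CommRingCat.ofHom (algebraMap K B))) fK) := by
  intro x y hxy
  have hi : Function.Injective (pullbackSpecIso K B K').hom :=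
    Function.LeftInverse.injective (g := (pullbackSpecIso K B K').inv) fun z => by
      simp [← Scheme.Hom.comp_apply]
  refine hi ?_
  rw [← pullbackSpecIso_hom_fst K B K', Scheme.Hom.comp_apply, Scheme.Hom.comp_apply] at hxy
  let P : PrimeSpectrum (B ⊗[K] K') := (pullbackSpecIso K B K').hom x
  let Q : PrimeSpectrum (B ⊗[K] K') := (pullbackSpecIso K B K').hom y
  change P = Q
  replace hxy : PrimeSpectrum.comap Algebra.TensorProduct.includeLeftRingHom P =
      PrimeSpectrum.comap Algebra.TensorProduct.includeLeftRingHom Q := hxy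
  haveI : IsArtinianRing B := isArtinian_of_tower K inferInstance
  let p : Ideal B := P.asIdeal.comap Algebra.TensorProduct.includeLeftRingHom
  haveI : p.IsMaximal := IsArtinianRing.isMaximal_of_isPrime p
  letI : Field (B ⧸ p) := Ideal.Quotient.field p
  haveI : Algebra.FormallyUnramified K (B ⧸ p) :=
    Algebra.FormallyUnramified.of_surjective (Ideal.Quotient.mkₐ K p) Ideal.Quotient.mk_surjective
  haveI : Module.Finite K (B ⧸ p) :=
    Module.Finite.of_surjective (Ideal.Quotient.mkₐ K p).toLinearMap Ideal.Quotient.mk_surjective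
  haveI : Algebra.IsSeparable K (B ⧸ p) := Algebra.FormallyUnramified.isSeparable K (B ⧸ p)
  let m : B ⊗[K] K' →ₐ[K] (B ⧸ p) ⊗[K] K' :=
    Algebra.TensorProduct.map (Ideal.Quotient.mkₐ K p) (AlgHom.id K K')
  have hm : Function.Surjective m :=
    Algebra.TensorProduct.map_surjective _ _ Ideal.Quotient.mk_surjective Function.surjective_id
  have hmax : (RingHom.ker m).IsMaximal := by
    have hf : IsField ((B ⧸ p) ⊗[K] K') :=
      MulEquiv.isField (hK (B ⧸ p)) (Algebra.TensorProduct.comm K _ _).toMulEquiv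
    letI := hf.toField
    exact RingHom.ker_isMaximal_of_surjective m hm
  have hker : RingHom.ker m =
      p.map (Algebra.TensorProduct.includeLeft : B →ₐ[K] B ⊗[K] K') :=
    (Algebra.TensorProduct.rTensor_ker (f := Ideal.Quotient.mkₐ K p) Ideal.Quotient.mk_surjective).trans
      (congrArg _ (Ideal.Quotient.mkₐ_ker K p))
  have hP : RingHom.ker m ≤ P.asIdeal := hker.le.trans (Ideal.map_le_iff_le_comap.2 le_rfl)
  have hQ : RingHom.ker m ≤ Q.asIdeal :=
    hker.le.trans (Ideal.map_le_iff_le_comap.2 (congrArg PrimeSpectrum.asIdeal hxy).le)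
  exact PrimeSpectrum.ext
    ((hmax.eq_of_le P.2.ne_top hP).symm.trans (hmax.eq_of_le Q.2.ne_top hQ))

theorem injective_fst
    (hK : ∀ (L : Type u) [Field L] [Algebra K L] [FiniteDimensional K L] [Algebra.IsSeparable K L],
      IsField (K' ⊗[K] L))
    (A : FEt.Cat (Spec (CommRingCat.of K))) : Function.Injective (pullback.fst A.hom fK) := by
  let v : A.left ⟶ Spec (CommRingCat.of K) := A.hom
  haveI : IsFinite v := A.prop.1
  haveI : Etale v := A.prop.2
  haveI : IsAffine A.left := isAffine_of_isAffineHom v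
  obtain ⟨φ, hφ⟩ := Spec.map_surjective (A.left.isoSpec.inv ≫ v)
  haveI h1 : IsFinite (Spec.map φ) := by rw [hφ]; infer_instance
  haveI h2 : Etale (Spec.map φ) := by rw [hφ]; infer_instance
  rw [IsFinite.SpecMap_iff] at h1
  rw [HasRingHomProperty.Spec_iff (P := @Etale)] at h2
  algebraize [φ.hom]
  have key := injective_fst_spec K K' hK Γ(A.left, ⊤)
  have hv : v = A.left.isoSpec.hom ≫ Spec.map (CommRingCat.ofHom (algebraMap K Γ(A.left, ⊤))) := by
    show v = A.left.isoSpec.hom ≫ Spec.map φ
    rw [hφ, Iso.hom_inv_id_assoc]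
  let m : pullback v fK ⟶ pullback (Spec.map (CommRingCat.ofHom (algebraMap K Γ(A.left, ⊤)))) fK :=
    pullback.map _ _ _ _ A.left.isoSpec.hom (𝟙 _) (𝟙 _) (by simpa using hv) (by simp)
  haveI : IsIso m := by dsimp only [m]; infer_instance
  have h : pullback.fst v fK = (m ≫ pullback.fst _ _) ≫ A.left.isoSpec.inv := by
    simp [m]
  change Function.Injective (pullback.fst v fK)
  rw [h, Scheme.Hom.comp_base, TopCat.coe_comp, Scheme.Hom.comp_base, TopCat.coe_comp]
  exact (A.left.isoSpec.inv.homeomorph.injective).comp (key.comp m.homeomorph.injective)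

theorem clopenSurj_of_isField
    (hK : ∀ (L : Type u) [Field L] [Algebra K L] [FiniteDimensional K L] [Algebra.IsSeparable K L],
      IsField (K' ⊗[K] L))
    (A : FEt.Cat (Spec (CommRingCat.of K))) : FEt21.ClopenSurj fK A := by
  intro C _
  haveI : IsFinite A.hom := A.prop.1
  haveI : DiscreteTopology A.left := by
    let v : A.left ⟶ Spec (CommRingCat.of K) := A.hom
    haveI : IsFinite v := A.prop.1
    haveI : IsAffine A.left := isAffine_of_isAffineHom v
    obtain ⟨φ, hφ⟩ := Spec.map_surjective (A.left.isoSpec.inv ≫ v)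
    haveI h1 : IsFinite (Spec.map φ) := by rw [hφ]; infer_instance
    rw [IsFinite.SpecMap_iff] at h1
    algebraize [φ.hom]
    haveI : IsArtinianRing Γ(A.left, ⊤) := isArtinian_of_tower K inferInstance
    haveI : DiscreteTopology (Spec Γ(A.left, ⊤)) :=
      inferInstanceAs (DiscreteTopology (PrimeSpectrum _))
    exact A.left.isoSpec.hom.homeomorph.symm.discreteTopology
  exact ⟨pullback.fst A.hom fK '' C, isClopen_discrete _, Set.preimage_image_eq _ (injective_fst K K' hK A)⟩

theorem essSurj_of_descent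
    (hd : ∀ (L' : Type u) [Field L'] [Algebra K' L'] [FiniteDimensional K' L'] [Algebra.IsSeparable K' L'],
      ∃ (L : Type u) (_ : Field L) (_ : Algebra K L), FiniteDimensional K L ∧ Algebra.IsSeparable K L ∧
        Nonempty ((K' ⊗[K] L) ≃ₐ[K'] L')) :
    (FEt.restrict fK).EssSurj := by
  classical
  refine ⟨fun V => ?_⟩
  let v : V.left ⟶ Spec (CommRingCat.of K') := V.hom
  haveI : IsFinite v := V.prop.1
  haveI : Etale v := V.prop.2
  haveI : IsAffine V.left := isAffine_of_isAffineHom v
  obtain ⟨φ, hφ⟩ := Spec.map_surjective (V.left.isoSpec.inv ≫ v)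
  haveI h1 : IsFinite (Spec.map φ) := by rw [hφ]; infer_instance
  haveI h2 : Etale (Spec.map φ) := by rw [hφ]; infer_instance
  rw [IsFinite.SpecMap_iff] at h1
  rw [HasRingHomProperty.Spec_iff (P := @Etale)] at h2
  algebraize [φ.hom]
  obtain ⟨I, _, Li, _, _, eΓ, hsep⟩ :=
    (Algebra.FormallyEtale.iff_exists_algEquiv_prod K' Γ(V.left, ⊤)).1 inferInstance
  haveI := Fintype.ofFinite I
  haveI : ∀ i, FiniteDimensional K' (Li i) := fun i =>
    Module.Finite.of_surjective ((Pi.evalAlgHom K' Li i).comp eΓ.toAlgHom).toLinearMap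
      ((Function.surjective_eval i).comp eΓ.surjective)
  choose L hLf hLa hfin hLsep hiso using fun i => hd (Li i)
  letI := hLf
  letI := hLa
  haveI := hfin
  let B := Π i, L i
  haveI : Module.Finite K B := Module.Finite.pi
  haveI : Algebra.FormallyEtale K B :=
    (Algebra.FormallyEtale.pi_iff L).2 fun i => haveI := hLsep i; Algebra.FormallyEtale.of_isSeparable K (L i)
  haveI : Algebra.FinitePresentation K B := Algebra.FinitePresentation.of_finiteType.1 inferInstance
  haveI : Algebra.Etale K B := { }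
  let e : Γ(V.left, ⊤) ≃ₐ[K'] K' ⊗[K] B :=
    eΓ.trans ((AlgEquiv.piCongrRight fun i => (hiso i).some.symm).trans
      (Algebra.TensorProduct.piRight K K' K' L).symm)
  let b : Spec (CommRingCat.of B) ⟶ Spec (CommRingCat.of K) :=
    Spec.map (CommRingCat.ofHom (algebraMap K B))
  haveI : IsFinite b := (IsFinite.SpecMap_iff _).2 (RingHom.finite_algebraMap.2 ‹_›)
  haveI : Etale b := (HasRingHomProperty.Spec_iff (P := @Etale)).2 (RingHom.etale_algebraMap.2 ‹_›)
  refine ⟨MorphismProperty.Over.mk ⊤ b (FEt21.prop_of b), ⟨MorphismProperty.Over.isoMk ?_ ?_⟩⟩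
  · exact (pullbackSymmetry _ _) ≪≫ (pullbackSpecIso K K' B) ≪≫
      Scheme.Spec.mapIso e.toRingEquiv.toCommRingCatIso.op ≪≫ V.left.isoSpec.symm
  · have he : Spec.map (CommRingCat.ofHom (e : Γ(V.left, ⊤) →+* K' ⊗[K] B)) ≫ Spec.map φ =
        Spec.map (CommRingCat.ofHom (algebraMap K' (K' ⊗[K] B))) := by
      rw [← Spec.map_comp]
      congr 1
      ext x
      exact e.commutes x
    show ((pullbackSymmetry b fK).hom ≫ (pullbackSpecIso K K' B).hom ≫
      Spec.map (CommRingCat.ofHom (e : Γ(V.left, ⊤) →+* K' ⊗[K] B)) ≫ V.left.isoSpec.inv) ≫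
        v = pullback.snd b fK
    simp only [Category.assoc]
    rw [← hφ, he]
    erw [pullbackSpecIso_hom_fst']
    exact pullbackSymmetry_hom_comp_fst _ _

theorem isEquivalence_of_isField
    (hK : ∀ (L : Type u) [Field L] [Algebra K L] [FiniteDimensional K L] [Algebra.IsSeparable K L],
      IsField (K' ⊗[K] L))
    (hd : ∀ (L' : Type u) [Field L'] [Algebra K' L'] [FiniteDimensional K' L'] [Algebra.IsSeparable K' L'],
      ∃ (L : Type u) (_ : Field L) (_ : Algebra K L), FiniteDimensional K L ∧ Algebra.IsSeparable K L ∧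
        Nonempty ((K' ⊗[K] L) ≃ₐ[K'] L')) :
    (FEt.restrict fK).IsEquivalence := by
  haveI : Surjective fK := ⟨fun y => ⟨default, Subsingleton.elim _ _⟩⟩
  obtain ⟨_, _⟩ := FEt21.fullyFaithful_of_clopen fK (FEt21.clopenInj_of_surjective fK)
    (clopenSurj_of_isField K K' hK)
  haveI := essSurj_of_descent K K' hd
  exact {}

end GrothLib.DvrComplFEtlead
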