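import Groth.Agent.Lib.AdicExtra.Completion
import Groth.Agent.Lib.AdicExtra.FiniteAlg
import Groth.Agent.Lib.QSect21.Finite
import Groth.Agent.Lib.UnrMono.Krasner
import Mathlib

/-!
# Finite separable extensions along the completion of a henselian discrete valuation ring
-/

set_option autoImplicit false
set_option linter.style.haveILetI false

universe u

open IsLocalRing Polynomial
open scoped TensorProduct

namespace GrothLib.DvrComplFEtlead

/-- A Noetherian local ring whose maximal ideal has a non-nilpotent generator is a domain. -/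
theorem isDomain_of_span_eq {S : Type u} [CommRing S] [IsNoetherianRing S] [IsLocalRing S] (t : S)
    (hm : maximalIdeal S = Ideal.span {t}) (ht : ∀ n, t ^ n ≠ 0) : IsDomain S := by
  have key : ∀ x : S, x ≠ 0 → ∃ (n : ℕ) (v : S), IsUnit v ∧ x = t ^ n * v := by
    intro x hx
    by_contra hne
    push Not at hne
    have : ∀ n, x ∈ Ideal.span ({t} : Set S) ^ n := fun n => by
      induction n with
      | zero => simp
      | succ n ih =>
        rw [Ideal.span_singleton_pow, Ideal.mem_span_singleton] at ih ⊢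
        obtain ⟨v, rfl⟩ := ih
        have hv : v ∈ maximalIdeal S := fun h => hne n v h rfl
        rw [hm, Ideal.mem_span_singleton] at hv
        rw [pow_succ]
        exact mul_dvd_mul_left _ hv
    refine hx ?_
    have h : x ∈ ⨅ n, Ideal.span ({t} : Set S) ^ n := by simpa [Ideal.mem_iInf] using this
    rwa [Ideal.iInf_pow_eq_bot_of_isLocalRing _ (hm ▸ (maximalIdeal.isMaximal S).ne_top), Ideal.mem_bot] at h
  haveI : NoZeroDivisors S := ⟨fun {a b} hab => by
    by_contra h
    push Not at h
    obtain ⟨m, v, hv, rfl⟩ := key a h.1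
    obtain ⟨n, w, hw, rfl⟩ := key b h.2
    refine ht (m + n) ((hv.mul hw).mul_left_eq_zero.1 ?_)
    rw [← hab, pow_add]; ring⟩
  exact NoZeroDivisors.to_isDomain S

variable (R Rh K Khat : Type u) [CommRing R] [IsDomain R] [IsDiscreteValuationRing R]
  [Field K] [Algebra R K] [IsFractionRing R K]
  [CommRing Rh] [IsDomain Rh] [IsDiscreteValuationRing Rh] [Algebra R Rh]
  [Field Khat] [Algebra Rh Khat] [IsFractionRing Rh Khat] [Algebra R Khat] [IsScalarTower R Rh Khat]
  [Algebra K Khat] [IsScalarTower R K Khat]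

include R Rh in
/-- A finite separable extension stays a field over the completed field. -/
theorem isField_tensor [HenselianLocalRing R]
    (hmap : maximalIdeal Rh = (maximalIdeal R).map (algebraMap R Rh))
    (hres : ∀ r : Rh, ∃ a : R, r - algebraMap R Rh a ∈ maximalIdeal Rh) (L : Type u) [Field L] [Algebra K L] [FiniteDimensional K L] [Algebra.IsSeparable K L] :
    IsField (Khat ⊗[K] L) := by
  letI : Algebra R L := ((algebraMap K L).comp (algebraMap R K)).toAlgebra
  haveI : IsScalarTower R K L := IsScalarTower.of_algebraMap_eq fun _ => rfl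
  let C := integralClosure R L
  haveI : Module.Finite R C := IsIntegralClosure.finite R K L C
  haveI : IsLocalRing C := GrothLib.QSect21.isLocalRing_of_finite_domain R C
  haveI : IsDedekindDomain C := integralClosure.isDedekindDomain R K L
  haveI : IsPrincipalIdealRing C :=
    IsPrincipalIdealRing.of_finite_maximals <| by
      refine Set.Finite.subset (Set.finite_singleton (maximalIdeal C)) fun m hm => ?_
      exact eq_maximalIdeal hm
  have hinj : Function.Injective (algebraMap R C) := fun x y hxy => by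
    have h1 : algebraMap R L x = algebraMap R L y := congrArg Subtype.val hxy
    rw [IsScalarTower.algebraMap_apply R K L, IsScalarTower.algebraMap_apply R K L y] at h1
    exact IsFractionRing.injective R K ((algebraMap K L).injective h1)
  haveI : Module.IsTorsionFree R C := by
    rw [Module.isTorsionFree_iff_faithfulSMul]
    exact (faithfulSMul_iff_algebraMap_injective R C).2 hinj
  haveI : Module.Free R C := Module.free_of_finite_type_torsion_free'
  haveI : Algebra.IsIntegral R C := Algebra.IsIntegral.of_finite R C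
  haveI : IsLocalHom (algebraMap R C) := RingHom.IsIntegral.isLocalHom (algebraMap_isIntegral_iff.mpr inferInstance) hinj
  obtain ⟨π, hπ⟩ := IsDiscreteValuationRing.exists_irreducible R
  obtain ⟨t, ht⟩ : ∃ t : C, maximalIdeal C = Ideal.span {t} :=
    ⟨_, (Ideal.span_singleton_generator (maximalIdeal C)).symm⟩
  have hπC : algebraMap R C π ∈ maximalIdeal C := by
    intro hu
    obtain ⟨v, hv⟩ := hu
    exact hπ.not_isUnit (IsLocalHom.map_nonunit (f := algebraMap R C) π ⟨v, hv⟩)
  rw [ht, Ideal.mem_span_singleton] at hπC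
  obtain ⟨t', ht'⟩ := hπC
  let S := Rh ⊗[R] C
  haveI : Module.Finite Rh S := Module.Finite.base_change R Rh C
  haveI : IsNoetherianRing S := IsNoetherianRing.of_finite Rh S
  haveI : Algebra.IsIntegral Rh S := Algebra.IsIntegral.of_finite Rh S
  let T : S := (1 : Rh) ⊗ₜ t
  have hmR : ∀ r : Rh, r ∈ maximalIdeal Rh → ∀ c : C, r ⊗ₜ[R] c ∈ Ideal.span ({T} : Set S) := by
    intro r hr c
    rw [hmap, hπ.maximalIdeal_eq, Ideal.map_span, Set.image_singleton,
      Ideal.mem_span_singleton] at hr
    obtain ⟨r', rfl⟩ := hr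
    rw [Ideal.mem_span_singleton]
    refine ⟨r' ⊗ₜ (t' * c), ?_⟩
    show _ = ((1 : Rh) ⊗ₜ[R] t) * (r' ⊗ₜ[R] (t' * c))
    rw [Algebra.TensorProduct.tmul_mul_tmul, one_mul, ← mul_assoc, ← ht', ← Algebra.smul_def, ← Algebra.smul_def,
      TensorProduct.smul_tmul]
  have hsurj : ∀ z : S, ∃ c : C, z - (1 : Rh) ⊗ₜ c ∈ Ideal.span ({T} : Set S) := fun z => by
    induction z using TensorProduct.induction_on with
    | zero => exact ⟨0, by simp⟩
    | tmul r c =>
      obtain ⟨a, ha⟩ := hres r
      refine ⟨a • c, ?_⟩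
      rw [← TensorProduct.smul_tmul, Algebra.smul_def, mul_one, ← TensorProduct.sub_tmul]
      exact hmR _ ha c
    | add x y hx hy =>
      obtain ⟨c, hc⟩ := hx
      obtain ⟨d, hd⟩ := hy
      refine ⟨c + d, ?_⟩
      rw [TensorProduct.tmul_add, add_sub_add_comm]
      exact add_mem hc hd
  haveI : IsLocalHom (algebraMap R Rh) :=
    ((IsLocalRing.local_hom_TFAE _).out 0 2 rfl rfl).mpr hmap.ge
  have hk : Function.Bijective (IsLocalRing.ResidueField.map (algebraMap R Rh)) :=
    ⟨RingHom.injective _, fun y => by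
      obtain ⟨r, rfl⟩ := IsLocalRing.residue_surjective y
      obtain ⟨a, ha⟩ := hres r
      refine ⟨IsLocalRing.residue R a, ?_⟩
      rw [IsLocalRing.ResidueField.map_residue, eq_comm, ← sub_eq_zero, ← map_sub]
      exact (IsLocalRing.residue_eq_zero_iff _).2 ha⟩
  let ek := RingEquiv.ofBijective _ hk
  let r1 : Rh →ₐ[R] ResidueField C :=
    { (algebraMap (ResidueField R) (ResidueField C)).comp (ek.symm.toRingHom.comp (IsLocalRing.residue Rh)) with
      commutes' := fun a => by
        show algebraMap (ResidueField R) (ResidueField C) (ek.symm (IsLocalRing.residue Rh (algebraMap R Rh a))) = _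
        rw [show IsLocalRing.residue Rh (algebraMap R Rh a) = ek (IsLocalRing.residue R a) from
          (IsLocalRing.ResidueField.map_residue _ _).symm, RingEquiv.symm_apply_apply]
        rfl }
  let res : S →ₐ[R] ResidueField C := Algebra.TensorProduct.lift r1
    (IsScalarTower.toAlgHom R C (ResidueField C)) (fun _ _ => Commute.all _ _)
  have hTne : Ideal.span ({T} : Set S) ≠ ⊤ := by
    intro h
    obtain ⟨w, hw⟩ := Ideal.mem_span_singleton.1 ((Ideal.eq_top_iff_one _).1 h)
    have h1 := congrArg res hw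
    have h2 : res T = 0 := by
      show Algebra.TensorProduct.lift r1 (IsScalarTower.toAlgHom R C (ResidueField C)) (fun _ _ => Commute.all _ _)
        ((1 : Rh) ⊗ₜ[R] t) = 0
      erw [Algebra.TensorProduct.lift_tmul]
      rw [map_one, one_mul]
      show IsLocalRing.residue C t = 0
      rw [IsLocalRing.residue_eq_zero_iff, ht]
      exact Ideal.mem_span_singleton_self t
    rw [map_one, map_mul, h2, zero_mul] at h1
    exact one_ne_zero h1
  have hmax : (Ideal.span ({T} : Set S)).IsMaximal := by
    rw [Ideal.isMaximal_iff]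
    refine ⟨fun h => hTne ((Ideal.eq_top_iff_one _).2 h), fun J x hle hx hxJ => ?_⟩
    obtain ⟨c, hc⟩ := hsurj x
    have hcu : IsUnit c := by
      by_contra hcu
      refine hx ?_
      have hcm : c ∈ maximalIdeal C := hcu
      rw [ht, Ideal.mem_span_singleton] at hcm
      obtain ⟨d, rfl⟩ := hcm
      have h1 : (1 : Rh) ⊗ₜ[R] (t * d) ∈ Ideal.span ({T} : Set S) := by
        refine Ideal.mem_span_singleton.2 ⟨(1 : Rh) ⊗ₜ d, ?_⟩
        rw [Algebra.TensorProduct.tmul_mul_tmul, one_mul]
      simpa using add_mem hc h1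
    obtain ⟨v, rfl⟩ := hcu
    have h2 : (1 : Rh) ⊗ₜ[R] (v : C) ∈ J := by
      have := J.sub_mem hxJ (hle hc)
      simpa using this
    have h3 := J.mul_mem_right ((1 : Rh) ⊗ₜ[R] ((v⁻¹ : Cˣ) : C)) h2
    rwa [Algebra.TensorProduct.tmul_mul_tmul, one_mul, Units.mul_inv] at h3
  have huniq : ∀ M : Ideal S, M.IsMaximal → M = Ideal.span {T} := by
    intro M hM
    refine (hmax.eq_of_le hM.ne_top (Ideal.span_le.2 (Set.singleton_subset_iff.2 ?_))).symm
    have hc := Ideal.isMaximal_comap_of_isIntegral_of_isMaximal (R := Rh) M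
    have h1 : algebraMap Rh S (algebraMap R Rh π) ∈ M := by
      show algebraMap R Rh π ∈ M.comap (algebraMap Rh S)
      rw [eq_maximalIdeal hc, hmap]
      exact Ideal.mem_map_of_mem _ (by rw [hπ.maximalIdeal_eq]; exact Ideal.mem_span_singleton_self π)
    -- a power of the generator is a multiple of the uniformizer
    obtain ⟨k, hk⟩ : ∃ k : ℕ, algebraMap R C π ∣ t ^ k := by
      have hne : Ideal.span {algebraMap R C π} ≠ ⊥ := by
        simp [hπ.ne_zero, map_ne_zero_iff _ hinj]
      obtain ⟨k, hk⟩ := Ideal.exists_pow_le_of_le_radical_of_fg (I := maximalIdeal C)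
        (J := Ideal.span {algebraMap R C π}) (by
          rw [Ideal.radical_eq_sInf]
          refine le_sInf fun P ⟨hle, hP⟩ => ?_
          haveI := hP
          exact (eq_maximalIdeal (Ideal.IsPrime.isMaximal hP fun hb => hne (le_bot_iff.1 (hle.trans hb.le)))).ge)
        (IsNoetherian.noetherian _)
      exact ⟨k, Ideal.mem_span_singleton.1 (hk (Ideal.pow_mem_pow (by rw [ht]; exact Ideal.mem_span_singleton_self t) k))⟩
    obtain ⟨d, hd⟩ := hk
    refine hM.isPrime.mem_of_pow_mem k ?_
    show ((1 : Rh) ⊗ₜ[R] t) ^ k ∈ M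
    rw [Algebra.TensorProduct.tmul_pow, one_pow, hd, ← Algebra.smul_def, ← TensorProduct.smul_tmul,
      Algebra.smul_def, mul_one, show (algebraMap R Rh π) ⊗ₜ[R] d =
        algebraMap Rh S (algebraMap R Rh π) * ((1 : Rh) ⊗ₜ[R] d) by
          rw [Algebra.TensorProduct.algebraMap_apply, Algebra.TensorProduct.tmul_mul_tmul, mul_one, one_mul]; rfl]
    exact M.mul_mem_right _ h1
  haveI : Nontrivial S := ⟨⟨0, 1, fun h => hTne ((Ideal.eq_top_iff_one _).2 (h ▸ zero_mem _))⟩⟩
  haveI : IsLocalRing S := IsLocalRing.of_unique_max_ideal ⟨_, hmax, huniq⟩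
  have hbS := Algebra.TensorProduct.basis Rh (Module.Free.chooseBasis R C)
  have hTn : ∀ n, T ^ n ≠ 0 := fun n h => by
    have h1 : algebraMap Rh S (algebraMap R Rh π ^ n) = 0 := by
      rw [map_pow, show algebraMap Rh S (algebraMap R Rh π) = T * ((1 : Rh) ⊗ₜ[R] t') by
        show (algebraMap R Rh π) ⊗ₜ[R] (1 : C) = _
        rw [Algebra.TensorProduct.tmul_mul_tmul, one_mul, ← ht', ← mul_one (algebraMap R Rh π),
          ← Algebra.smul_def, TensorProduct.smul_tmul, ← Algebra.algebraMap_eq_smul_one], mul_pow, h, zero_mul]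
    haveI : Module.Free Rh S := Module.Free.of_basis hbS
    have h2 := FaithfulSMul.algebraMap_injective Rh S (h1.trans (map_zero _).symm)
    refine pow_ne_zero n (fun h0 => IsDiscreteValuationRing.not_a_field Rh ?_) h2
    rw [hmap, hπ.maximalIdeal_eq, Ideal.map_span, Set.image_singleton, h0, Ideal.span_singleton_eq_bot]
  haveI : IsDomain S := isDomain_of_span_eq T (eq_maximalIdeal hmax).symm hTn
  -- compare with the tensor product of fields
  let b := Module.Free.chooseBasis R C
  haveI : IsFractionRing C L := IsIntegralClosure.isFractionRing_of_finite_extension R K L C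
  let bL := b.localizationLocalization K (nonZeroDivisors R) L
  let B := Algebra.TensorProduct.basis Khat bL
  let ψ : S →ₐ[R] Khat ⊗[K] L := Algebra.TensorProduct.lift
    (((Algebra.TensorProduct.includeLeft : Khat →ₐ[K] Khat ⊗[K] L).restrictScalars R).comp
      (IsScalarTower.toAlgHom R Rh Khat))
    (((Algebra.TensorProduct.includeRight : L →ₐ[K] Khat ⊗[K] L).restrictScalars R).comp C.val)
    (fun _ _ => Commute.all _ _)
  have hψ : ∀ (r : Rh) (c : C), ψ (r ⊗ₜ c) = algebraMap Rh Khat r ⊗ₜ[K] (c : L) := fun r c => by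
    show Algebra.TensorProduct.lift
      (((Algebra.TensorProduct.includeLeft : Khat →ₐ[K] Khat ⊗[K] L).restrictScalars R).comp
        (IsScalarTower.toAlgHom R Rh Khat))
      (((Algebra.TensorProduct.includeRight : L →ₐ[K] Khat ⊗[K] L).restrictScalars R).comp C.val)
      (fun _ _ => Commute.all _ _) (r ⊗ₜ[R] c) = _
    erw [Algebra.TensorProduct.lift_tmul]
    show (algebraMap Rh Khat r ⊗ₜ[K] (1 : L)) * ((1 : Khat) ⊗ₜ[K] (c : L)) = _
    rw [Algebra.TensorProduct.tmul_mul_tmul, mul_one, one_mul]
  have hcoord : ∀ z : S, ∀ i, B.repr (ψ z) i = algebraMap Rh Khat ((Algebra.TensorProduct.basis Rh b).repr z i) := by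
    intro z i
    induction z using TensorProduct.induction_on with
    | zero => simp
    | tmul r c =>
      rw [hψ, Algebra.TensorProduct.basis_repr_tmul, Algebra.TensorProduct.basis_repr_tmul]
      simp only [Finsupp.smul_apply, Finsupp.mapRange_apply, smul_eq_mul, bL]
      rw [show (c : L) = algebraMap C L c from rfl, Module.Basis.localizationLocalization_repr_algebraMap,
        map_mul]
      congr 1
      rw [← IsScalarTower.algebraMap_apply, ← IsScalarTower.algebraMap_apply]
    | add x y hx hy => simp only [map_add, Finsupp.add_apply, hx, hy]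
  have hψinj : Function.Injective ψ := fun x y h => (Algebra.TensorProduct.basis Rh b).repr.injective
    (Finsupp.ext fun i => IsFractionRing.injective Rh Khat (by rw [← hcoord, ← hcoord, h]))
  have hfrac : ∀ x : Khat ⊗[K] L, ∃ s : Rh, s ≠ 0 ∧ ∃ y : S,
      algebraMap Khat (Khat ⊗[K] L) (algebraMap Rh Khat s) * x = ψ y := fun x => by
    obtain ⟨s, hs⟩ := IsLocalization.exist_integer_multiples_of_finite (nonZeroDivisors Rh) (fun i => B.repr x i)
    choose n hn using hs
    refine ⟨s, nonZeroDivisors.ne_zero s.2, (Algebra.TensorProduct.basis Rh b).repr.symm (Finsupp.equivFunOnFinite.symm n),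
      B.repr.injective (Finsupp.ext fun i => ?_)⟩
    rw [hcoord, LinearEquiv.apply_symm_apply, Finsupp.equivFunOnFinite_symm_apply_apply, hn, ← Algebra.smul_def,
      map_smul, Finsupp.smul_apply]
    rw [Algebra.smul_def, Algebra.smul_def]
    rfl
  haveI : Nontrivial (Khat ⊗[K] L) := ⟨⟨ψ 0, ψ 1, fun h => zero_ne_one (hψinj h)⟩⟩
  haveI : NoZeroDivisors (Khat ⊗[K] L) := ⟨fun {a b} hab => by
    obtain ⟨s, hs, a', ha⟩ := hfrac a
    obtain ⟨s', hs', b', hb⟩ := hfrac b
    have h0 : ψ (a' * b') = ψ 0 := by rw [map_mul, ← ha, ← hb, map_zero, mul_mul_mul_comm, hab, mul_zero]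
    have hu : ∀ r : Rh, r ≠ 0 → IsUnit (algebraMap Khat (Khat ⊗[K] L) (algebraMap Rh Khat r)) := fun r hr =>
      (isUnit_iff_ne_zero.2 ((map_ne_zero_iff _ (IsFractionRing.injective Rh Khat)).2 hr)).map _
    rcases mul_eq_zero.1 (hψinj h0) with h | h
    · left; rw [h, map_zero] at ha; exact (hu s hs).mul_right_eq_zero.1 ha
    · right; rw [h, map_zero] at hb; exact (hu s' hs').mul_right_eq_zero.1 hb⟩
  haveI : IsDomain (Khat ⊗[K] L) := NoZeroDivisors.to_isDomain _
  haveI : FiniteDimensional Khat (Khat ⊗[K] L) := Module.Finite.base_change K Khat L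
  haveI : Algebra.IsIntegral Khat (Khat ⊗[K] L) := Algebra.IsIntegral.of_finite _ _
  exact isField_of_isIntegral_of_isField' (Field.toIsField Khat)

/-- An extension generated by a root of a polynomial over the ground field of full degree descends. -/
theorem exists_of_root (K Khat Lh : Type u) [Field K] [Field Khat] [Field Lh] [Algebra K Khat] [Algebra Khat Lh]
    [FiniteDimensional Khat Lh] [Algebra.IsSeparable Khat Lh] (Q : K[X]) (hQ : Q.Monic) (β : Lh)
    (hβ0 : Polynomial.aeval β (Q.map (algebraMap K Khat)) = 0) (hβgen : Algebra.adjoin Khat {β} = ⊤)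
    (hdeg : Module.finrank Khat Lh = Q.natDegree) :
    ∃ (L : Type u) (_ : Field L) (_ : Algebra K L), FiniteDimensional K L ∧ Algebra.IsSeparable K L ∧
      Nonempty ((Khat ⊗[K] L) ≃ₐ[Khat] Lh) := by
  have hmin : minpoly Khat β = Q.map (algebraMap K Khat) := by
    refine (Polynomial.eq_of_monic_of_dvd_of_natDegree_le (minpoly.monic (Algebra.IsIntegral.isIntegral _)) (hQ.map _)
      (minpoly.dvd Khat _ hβ0) ?_).symm
    have htop : IntermediateField.adjoin Khat {β} = ⊤ := by
      refine eq_top_iff.2 fun z _ => ?_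
      have : z ∈ Algebra.adjoin Khat {β} := hβgen ▸ trivial
      exact IntermediateField.algebra_adjoin_le_adjoin _ _ this
    rw [← IntermediateField.adjoin.finrank (Algebra.IsIntegral.isIntegral β), htop,
      IntermediateField.finrank_top', hdeg, Polynomial.natDegree_map]
  have hirr : Irreducible Q := Polynomial.Monic.irreducible_of_irreducible_map (algebraMap K Khat) Q hQ
    (hmin ▸ minpoly.irreducible (Algebra.IsIntegral.isIntegral _))
  haveI : Fact (Irreducible Q) := ⟨hirr⟩
  have hQsep : Q.Separable := by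
    rw [← Polynomial.separable_map (algebraMap K Khat), ← hmin]
    exact Algebra.IsSeparable.isSeparable Khat β
  let pb := AdjoinRoot.powerBasis hirr.ne_zero
  haveI : FiniteDimensional K (AdjoinRoot Q) := pb.finite
  haveI : Algebra.IsSeparable K (AdjoinRoot Q) := by
    have htop : IntermediateField.adjoin K {pb.gen} = ⊤ := by
      refine eq_top_iff.2 fun z _ => ?_
      have : z ∈ Algebra.adjoin K {pb.gen} := pb.adjoin_gen_eq_top ▸ trivial
      exact IntermediateField.algebra_adjoin_le_adjoin _ _ this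
    haveI : Algebra.IsSeparable K (IntermediateField.adjoin K {pb.gen}) := by
      rw [IntermediateField.isSeparable_adjoin_simple_iff_isSeparable]
      refine Polynomial.Separable.of_dvd hQsep (minpoly.dvd K _ ?_)
      show Polynomial.aeval (AdjoinRoot.root Q) Q = 0
      rw [AdjoinRoot.aeval_eq, AdjoinRoot.mk_self]
    exact AlgEquiv.Algebra.isSeparable ((IntermediateField.equivOfEq htop).trans IntermediateField.topEquiv)
  letI : Algebra K Lh := ((algebraMap Khat Lh).comp (algebraMap K Khat)).toAlgebra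
  haveI : IsScalarTower K Khat Lh := IsScalarTower.of_algebraMap_eq fun _ => rfl
  let φ : AdjoinRoot Q →ₐ[K] Lh := AdjoinRoot.liftAlgHom Q (Algebra.ofId K Lh) β
    (by rw [Polynomial.aeval_map_algebraMap] at hβ0; exact hβ0)
  let Φ : Khat ⊗[K] AdjoinRoot Q →ₐ[Khat] Lh :=
    Algebra.TensorProduct.lift (Algebra.ofId Khat Lh) φ (fun _ _ => Commute.all _ _)
  have hsurjΦ : Function.Surjective Φ := by
    rw [← AlgHom.range_eq_top, eq_top_iff, ← hβgen]
    refine Algebra.adjoin_le (Set.singleton_subset_iff.2 ⟨1 ⊗ₜ AdjoinRoot.root Q, ?_⟩)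
    simp [Φ, φ]
  haveI : FiniteDimensional Khat (Khat ⊗[K] AdjoinRoot Q) := Module.Finite.base_change K Khat _
  have hdimeq : Module.finrank Khat (Khat ⊗[K] AdjoinRoot Q) = Module.finrank Khat Lh := by
    rw [Module.finrank_baseChange, pb.finrank, AdjoinRoot.powerBasis_dim, hdeg]
  exact ⟨AdjoinRoot Q, inferInstance, inferInstance, inferInstance, inferInstance,
    ⟨AlgEquiv.ofBijective Φ ⟨((LinearMap.injective_iff_surjective_of_finrank_eq_finrank hdimeq
      (f := Φ.toLinearMap))).2 hsurjΦ, hsurjΦ⟩⟩⟩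

include R in
theorem exists_approx (hmap : maximalIdeal Rh = (maximalIdeal R).map (algebraMap R Rh))
    (hres : ∀ r : Rh, ∃ a : R, r - algebraMap R Rh a ∈ maximalIdeal Rh) (n : ℕ) (r : Rh) :
    ∃ a : R, r - algebraMap R Rh a ∈ maximalIdeal Rh ^ n := by
  obtain ⟨π, hπ⟩ := IsDiscreteValuationRing.exists_irreducible R
  have hm : maximalIdeal Rh = Ideal.span {algebraMap R Rh π} := by
    rw [hmap, hπ.maximalIdeal_eq, Ideal.map_span, Set.image_singleton]
  induction n generalizing r with
  | zero => exact ⟨0, by simp⟩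
  | succ n ih =>
    obtain ⟨a, ha⟩ := hres r
    rw [hm, Ideal.mem_span_singleton] at ha
    obtain ⟨r', hr'⟩ := ha
    obtain ⟨a', ha'⟩ := ih r'
    refine ⟨a + π * a', ?_⟩
    rw [map_add, map_mul, ← sub_sub, hr', ← mul_sub, pow_succ']
    exact Ideal.mul_mem_mul (hm ▸ Ideal.mem_span_singleton_self _) ha'

include R Rh in
/-- Every finite separable extension of the completed field comes from the ground field. -/
theorem exists_descent [IsAdicComplete (maximalIdeal Rh) Rh]
    (hmap : maximalIdeal Rh = (maximalIdeal R).map (algebraMap R Rh))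
    (hres : ∀ r : Rh, ∃ a : R, r - algebraMap R Rh a ∈ maximalIdeal Rh)
    (Lh : Type u) [Field Lh] [Algebra Khat Lh] [FiniteDimensional Khat Lh] [Algebra.IsSeparable Khat Lh] :
    ∃ (L : Type u) (_ : Field L) (_ : Algebra K L), FiniteDimensional K L ∧ Algebra.IsSeparable K L ∧
      Nonempty ((Khat ⊗[K] L) ≃ₐ[Khat] Lh) := by
  classical
  letI : Algebra Rh Lh := ((algebraMap Khat Lh).comp (algebraMap Rh Khat)).toAlgebra
  haveI : IsScalarTower Rh Khat Lh := IsScalarTower.of_algebraMap_eq fun _ => rfl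
  let C := integralClosure Rh Lh
  haveI : Module.Finite Rh C := IsIntegralClosure.finite Rh Khat Lh C
  haveI : IsNoetherianRing C := IsNoetherianRing.of_finite Rh C
  haveI : HenselianRing Rh (maximalIdeal Rh) := inferInstance
  haveI : HenselianLocalRing Rh := Hensel.henselianLocalRing_of_henselianRing inferInstance
  haveI : IsLocalRing C := GrothLib.QSect21.isLocalRing_of_finite_domain Rh C
  haveI : IsDedekindDomain C := integralClosure.isDedekindDomain Rh Khat Lh
  haveI : IsAdicComplete (maximalIdeal C) C := GrothLib.AdicExtra.isAdicComplete_localRing (R := Rh)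
  haveI : Algebra.IsIntegral Rh C := Algebra.IsIntegral.of_finite Rh C
  have hRL : Function.Injective (algebraMap Rh Lh) :=
    (algebraMap Khat Lh).injective.comp (IsFractionRing.injective Rh Khat)
  have hinj : Function.Injective (algebraMap Rh C) := fun x y hxy => hRL (congrArg Subtype.val hxy)
  have hnf : ¬ IsField C := fun hf =>
    IsDiscreteValuationRing.not_isField Rh (isField_of_isIntegral_of_isField (R := Rh) (S := C) hinj hf)
  haveI hCdvr : IsDiscreteValuationRing C :=
    ((IsDiscreteValuationRing.TFAE C hnf).out 0 2 rfl rfl).2 ‹IsDedekindDomain C›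
  have hdim : ringKrullDim C = 1 := IsPrincipalIdealRing.ringKrullDim_eq_one C hnf
  obtain ⟨π, hπ⟩ := IsDiscreteValuationRing.exists_irreducible R
  set ϖ : Rh := algebraMap R Rh π with hϖdef
  have hm : maximalIdeal Rh = Ideal.span {ϖ} := by
    rw [hmap, hπ.maximalIdeal_eq, Ideal.map_span, Set.image_singleton]
  have hϖ0 : ϖ ≠ 0 := fun h => IsDiscreteValuationRing.not_a_field Rh (by rw [hm, h, Ideal.span_singleton_eq_bot])
  have hϖ : Irreducible ϖ := (IsDiscreteValuationRing.irreducible_iff_uniformizer ϖ).2 hm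
  -- an integral primitive element
  obtain ⟨α₀, hα₀⟩ := Field.exists_primitive_element Khat Lh
  obtain ⟨y, hy0, hy⟩ := exists_integral_multiples Rh Khat ({α₀} : Finset Lh)
  let α : C := ⟨y • α₀, hy α₀ (Finset.mem_singleton_self _)⟩
  have hαgen : IntermediateField.adjoin Khat {(α : Lh)} = ⊤ := by
    refine eq_top_iff.2 ?_
    rw [← hα₀, IntermediateField.adjoin_simple_le_iff]
    have h1 : (α : Lh) ∈ IntermediateField.adjoin Khat {(α : Lh)} := IntermediateField.mem_adjoin_simple_self _ _
    have hy' : algebraMap Rh Khat y ≠ 0 := (map_ne_zero_iff _ (IsFractionRing.injective Rh Khat)).2 hy0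
    have h2 : α₀ = (algebraMap Rh Khat y)⁻¹ • (α : Lh) := by
      show α₀ = (algebraMap Rh Khat y)⁻¹ • (y • α₀)
      rw [← algebraMap_smul Khat y α₀, smul_smul, inv_mul_cancel₀ hy', one_smul]
    rw [h2]
    exact IntermediateField.smul_mem _ h1
  have hαint : IsIntegral Rh (α : Lh) := α.2
  set P := minpoly Rh (α : Lh) with hPdef
  have hPmap : minpoly Khat (α : Lh) = P.map (algebraMap Rh Khat) :=
    minpoly.isIntegrallyClosed_eq_field_fractions' Khat hαint
  have hPmonic : P.Monic := minpoly.monic hαint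
  set d := P.natDegree with hd
  have hdfin : Module.finrank Khat Lh = d := by
    rw [← IntermediateField.finrank_top' (F := Khat) (E := Lh), ← hαgen,
      IntermediateField.adjoin.finrank (Algebra.IsIntegral.isIntegral (α : Lh)), hPmap, hPmonic.natDegree_map]
  let AA : Subalgebra Rh Lh := Algebra.adjoin Rh {(α : Lh)}
  have hAfg : (Subalgebra.toSubmodule AA).FG := hαint.fg_adjoin_singleton
  have hAspan : Subalgebra.toSubmodule AA = Submodule.span Rh (Set.range fun i : Fin d => (α : Lh) ^ (i : ℕ)) := by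
    refine le_antisymm (fun z hz => ?_) (Submodule.span_le.2 ?_)
    · obtain ⟨F, rfl⟩ := (Algebra.adjoin_singleton_eq_range_aeval Rh (α : Lh)).le hz
      change Polynomial.aeval (α : Lh) F ∈ _
      rw [← Polynomial.aeval_modByMonic_eq_self_of_root (minpoly.aeval Rh (α : Lh)), Polynomial.aeval_eq_sum_range]
      refine Submodule.sum_mem _ fun i _ => ?_
      by_cases hi : i < d
      · exact Submodule.smul_mem _ _ (Submodule.subset_span ⟨⟨i, hi⟩, rfl⟩)
      · have : (F %ₘ P).coeff i = 0 := by
          refine Polynomial.coeff_eq_zero_of_degree_lt (lt_of_lt_of_le (Polynomial.degree_modByMonic_lt F hPmonic) ?_)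
          rw [Polynomial.degree_eq_natDegree hPmonic.ne_zero]
          exact_mod_cast Nat.le_of_not_lt hi
        rw [this, zero_smul]
        exact zero_mem _
    · rintro _ ⟨i, rfl⟩
      exact AA.pow_mem (Algebra.subset_adjoin rfl) _
  -- the conductor
  have hcond : ∀ z : Lh, ∃ k : ℕ, algebraMap Rh Lh ϖ ^ k * z ∈ AA := by
    intro z
    have hz : z ∈ Algebra.adjoin Khat {(α : Lh)} := by
      rw [← IntermediateField.adjoin_simple_toSubalgebra_of_isAlgebraic (Algebra.IsAlgebraic.isAlgebraic (α : Lh)),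
        hαgen]
      trivial
    induction hz using Algebra.adjoin_induction with
    | mem x hx => exact ⟨0, by rw [Set.mem_singleton_iff.1 hx, pow_zero, one_mul]; exact Algebra.subset_adjoin rfl⟩
    | algebraMap r =>
      obtain ⟨a, s, hs, rfl⟩ := IsFractionRing.div_surjective (A := Rh) r
      obtain ⟨k, v, rfl⟩ := IsDiscreteValuationRing.eq_unit_mul_pow_irreducible (nonZeroDivisors.ne_zero hs) hϖ
      refine ⟨k, ?_⟩
      have : algebraMap Rh Lh ϖ ^ k * algebraMap Khat Lh (algebraMap Rh Khat a / algebraMap Rh Khat (v * ϖ ^ k)) =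
          algebraMap Rh Lh (a * ((v⁻¹ : Rhˣ) : Rh)) := by
        have hv : algebraMap Rh Lh (v : Rh) * algebraMap Rh Lh ((v⁻¹ : Rhˣ) : Rh) = 1 := by
          rw [← map_mul, Units.mul_inv, map_one]
        have hv0 : algebraMap Rh Lh (v : Rh) ≠ 0 := left_ne_zero_of_mul_eq_one hv
        have hw0 : algebraMap Rh Lh ϖ ≠ 0 := (map_ne_zero_iff _ hRL).2 hϖ0
        rw [map_div₀, ← IsScalarTower.algebraMap_apply Rh Khat Lh, ← IsScalarTower.algebraMap_apply Rh Khat Lh, map_mul, map_mul, map_pow,
          eq_inv_of_mul_eq_one_right hv]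
        field_simp
      rw [this]
      exact AA.algebraMap_mem _
    | add x w _ _ hx hw =>
      obtain ⟨k, hx⟩ := hx
      obtain ⟨l, hw⟩ := hw
      refine ⟨k + l, ?_⟩
      have := AA.add_mem (AA.mul_mem (AA.pow_mem (AA.algebraMap_mem ϖ) l) hx)
        (AA.mul_mem (AA.pow_mem (AA.algebraMap_mem ϖ) k) hw)
      convert this using 1
      ring
    | mul x w _ _ hx hw =>
      obtain ⟨k, hx⟩ := hx
      obtain ⟨l, hw⟩ := hw
      refine ⟨k + l, ?_⟩
      convert AA.mul_mem hx hw using 1
      ring
  obtain ⟨G, hG⟩ := (‹Module.Finite Rh C›).fg_top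
  choose kz hkz using hcond
  set N := G.sup fun g => kz (g : Lh) with hNdef
  have hN : ∀ e : C, algebraMap Rh Lh ϖ ^ N * (e : Lh) ∈ AA := fun e => by
    have he : e ∈ Submodule.span Rh (G : Set C) := hG ▸ Submodule.mem_top
    induction he using Submodule.span_induction with
    | mem g hg =>
      have hle : kz (g : Lh) ≤ N := Finset.le_sup (f := fun g : C => kz (g : Lh)) hg
      rw [← Nat.sub_add_cancel hle, pow_add, mul_assoc]
      exact AA.mul_mem (AA.pow_mem (AA.algebraMap_mem ϖ) _) (hkz _)
    | zero => rw [ZeroMemClass.coe_zero, mul_zero]; exact AA.zero_mem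
    | add x w _ _ hx hw => rw [AddMemClass.coe_add, mul_add]; exact AA.add_mem hx hw
    | smul r x _ hx => rw [Subalgebra.coe_smul, mul_smul_comm]; exact AA.smul_mem hx r
  obtain ⟨c, hc⟩ : ∃ c, maximalIdeal C ^ c ≤ Ideal.span {algebraMap Rh C ϖ ^ (N + 1)} := by
    refine Ideal.exists_pow_le_of_le_radical_of_fg ?_ (IsNoetherian.noetherian _)
    rw [Ideal.radical_eq_sInf]
    refine le_sInf fun q ⟨hle, hq⟩ => ?_
    haveI := hq
    refine (eq_maximalIdeal (Ideal.IsPrime.isMaximal hq fun hb => ?_)).ge
    have h0 := hle (Ideal.mem_span_singleton_self (algebraMap Rh C ϖ ^ (N + 1)))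
    rw [hb, Ideal.mem_bot] at h0
    exact pow_ne_zero _ ((map_ne_zero_iff _ hinj).2 hϖ0) h0
  -- Krasner
  have hPα : (P.map (algebraMap Rh C)).eval α = 0 := by
    refine Subtype.ext ?_
    rw [Polynomial.eval_map, ← Polynomial.aeval_def, ← Subalgebra.coe_val, ← Polynomial.aeval_algHom_apply]
    exact minpoly.aeval Rh (α : Lh)
  have hP'α : (derivative (P.map (algebraMap Rh C))).eval α ≠ 0 := by
    intro h
    have h1 := congrArg Subtype.val h
    rw [Polynomial.derivative_map, Polynomial.eval_map, ← Polynomial.aeval_def, ← Subalgebra.coe_val,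
      ← Polynomial.aeval_algHom_apply] at h1
    have h2 := (Algebra.IsSeparable.isSeparable Khat (α : Lh)).aeval_derivative_ne_zero (minpoly.aeval Khat (α : Lh))
    rw [hPmap, Polynomial.derivative_map, Polynomial.aeval_map_algebraMap] at h2
    exact h2 h1
  obtain ⟨n, hn⟩ := GrothLib.UnrMono.krasner C hdim (P.map (algebraMap Rh C)) α hPα hP'α c
  choose ap hap using fun i : ℕ => exists_approx R Rh hmap hres n (P.coeff i)
  let Q₀ : R[X] := X ^ d + ∑ i : Fin d, Polynomial.C (ap i) * X ^ (i : ℕ)
  have hQmonic : Q₀.Monic := Polynomial.monic_X_pow_add (Polynomial.degree_sum_fin_lt _)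
  have hQdeg : Q₀.natDegree = d := by
    refine Polynomial.natDegree_eq_of_degree_eq_some ?_
    rw [Polynomial.degree_add_eq_left_of_degree_lt]
    · exact Polynomial.degree_X_pow d
    · rw [Polynomial.degree_X_pow]; exact Polynomial.degree_sum_fin_lt _
  have hQcoef : ∀ i < d, Q₀.coeff i = ap i := fun i hi => by
    rw [Polynomial.coeff_add, Polynomial.coeff_X_pow, if_neg hi.ne, zero_add, Polynomial.finset_sum_coeff,
      Finset.sum_eq_single ⟨i, hi⟩]
    · simp
    · intro j _ hj
      rw [Polynomial.coeff_C_mul_X_pow, if_neg fun h => hj (Fin.ext h.symm)]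
    · simp
  let D : C[X] := (Q₀.map (algebraMap R Rh)).map (algebraMap Rh C) - P.map (algebraMap Rh C)
  have hD : ∀ i, D.coeff i ∈ maximalIdeal C ^ n := fun i => by
    simp only [D, Polynomial.coeff_sub, Polynomial.coeff_map, ← map_sub]
    rcases lt_trichotomy i d with hi | hi | hi
    · rw [hQcoef i hi]
      have h1 := Ideal.mem_map_of_mem (algebraMap Rh C) (neg_mem (hap i))
      rw [neg_sub, Ideal.map_pow] at h1
      refine Ideal.pow_right_mono ?_ n h1
      exact Ideal.map_le_iff_le_comap.2 (eq_maximalIdeal (Ideal.isMaximal_comap_of_isIntegral_of_isMaximal (R := Rh) _)).ge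
    · subst hi
      rw [show Q₀.coeff d = 1 by rw [← hQdeg]; exact hQmonic, hPmonic.coeff_natDegree, map_one, sub_self, map_zero]
      exact zero_mem _
    · rw [Polynomial.coeff_eq_zero_of_natDegree_lt (hQdeg ▸ hi), Polynomial.coeff_eq_zero_of_natDegree_lt hi, map_zero,
        sub_self, map_zero]
      exact zero_mem _
  obtain ⟨β, hβroot, hβα⟩ := hn D hD
  rw [show P.map (algebraMap Rh C) + D = (Q₀.map (algebraMap R Rh)).map (algebraMap Rh C) by simp [D]] at hβroot
  obtain ⟨e, he⟩ := Ideal.mem_span_singleton.1 (hc hβα)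
  set γ : Lh := algebraMap Rh Lh ϖ ^ N * (e : Lh) with hγdef
  have hγ : γ ∈ AA := hN e
  have hβα' : (β : Lh) = (α : Lh) + algebraMap Rh Lh ϖ * γ := by
    have := congrArg Subtype.val he
    simp only [AddSubgroupClass.coe_sub, MulMemClass.coe_mul, SubmonoidClass.coe_pow] at this
    rw [eq_add_of_sub_eq this, hγdef, pow_succ, Subalgebra.coe_algebraMap]
    ring
  have hαA : (α : Lh) ∈ AA := Algebra.subset_adjoin rfl
  have hβA : (β : Lh) ∈ AA := hβα' ▸ AA.add_mem hαA (AA.mul_mem (AA.algebraMap_mem ϖ) hγ)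
  let M' : Submodule Rh Lh := Submodule.span Rh (Set.range fun i : Fin d => (β : Lh) ^ (i : ℕ))
  have hle : Subalgebra.toSubmodule AA ≤ M' := by
    refine Submodule.le_of_le_smul_of_le_jacobson_bot hAfg
      (le_of_eq (IsLocalRing.jacobson_eq_maximalIdeal ⊥ bot_ne_top).symm) ?_
    conv_lhs => rw [hAspan]
    rw [Submodule.span_le]
    rintro _ ⟨i, rfl⟩
    obtain ⟨z, hz, hzi⟩ : ∃ z ∈ AA, (β : Lh) ^ (i : ℕ) - (α : Lh) ^ (i : ℕ) = algebraMap Rh Lh ϖ * z := by
      refine ⟨(∑ j ∈ Finset.range (i : ℕ), (β : Lh) ^ j * (α : Lh) ^ ((i : ℕ) - 1 - j)) * γ,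
        AA.mul_mem (sum_mem fun j _ => AA.mul_mem (AA.pow_mem hβA _) (AA.pow_mem hαA _)) hγ, ?_⟩
      rw [← geom_sum₂_mul]
      conv_lhs => arg 2; rw [hβα', add_sub_cancel_left]
      ring
    show (α : Lh) ^ (i : ℕ) ∈ _
    rw [show (α : Lh) ^ (i : ℕ) = (β : Lh) ^ (i : ℕ) + ϖ • (-z) by
      rw [Algebra.smul_def, mul_neg, ← hzi]; ring]
    exact Submodule.add_mem_sup (Submodule.subset_span ⟨i, rfl⟩)
      (Submodule.smul_mem_smul (hm ▸ Ideal.mem_span_singleton_self ϖ) (AA.neg_mem hz))
  have hβgen : Algebra.adjoin Khat {(β : Lh)} = ⊤ := by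
    have hαβ : (α : Lh) ∈ Algebra.adjoin Khat {(β : Lh)} := by
      let W : Submodule Rh Lh := (Subalgebra.toSubmodule (Algebra.adjoin Khat {(β : Lh)})).restrictScalars Rh
      have hM : M' ≤ W := by
        refine Submodule.span_le.2 ?_
        intro g hg
        obtain ⟨i, rfl⟩ := hg
        show (β : Lh) ^ (i : ℕ) ∈ Algebra.adjoin Khat {(β : Lh)}
        exact pow_mem (Algebra.subset_adjoin (Set.mem_singleton (β : Lh))) (i : ℕ)
      exact hM (hle hαA)
    refine eq_top_iff.2 ?_
    rw [← IntermediateField.top_toSubalgebra, ← hαgen,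
      IntermediateField.adjoin_simple_toSubalgebra_of_isAlgebraic (Algebra.IsAlgebraic.isAlgebraic (α : Lh))]
    exact Algebra.adjoin_le (Set.singleton_subset_iff.2 hαβ)
  -- the descended field
  have hQK : (Q₀.map (algebraMap R K)).map (algebraMap K Khat) = (Q₀.map (algebraMap R Rh)).map (algebraMap Rh Khat) := by
    simp only [Polynomial.map_map, ← IsScalarTower.algebraMap_eq]
  refine exists_of_root K Khat Lh (Q₀.map (algebraMap R K)) (hQmonic.map _) (β : Lh) ?_ hβgen ?_
  · rw [hQK, Polynomial.aeval_map_algebraMap]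
    have := congrArg Subtype.val hβroot
    rw [Polynomial.eval_map, ← Polynomial.aeval_def, ← Subalgebra.coe_val, ← Polynomial.aeval_algHom_apply] at this
    exact this
  · rw [hdfin, Polynomial.natDegree_map_eq_of_injective (IsFractionRing.injective R K), hQdeg]

end GrothLib.DvrComplFEtlead
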